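import Mathlib
import Cfsg.Agent.Lib.LyDce.FixDefs

set_option autoImplicit false
set_option Elab.async false
set_option maxRecDepth 100000
set_option linter.all false
set_option maxHeartbeats 0

namespace Cfsg.Agent.TcData.Ly.Fix.T1

open Cfsg.Agent.Lib.TcFacts Cfsg.Agent.Lib.LyDce

theorem b0 : Block (okR 257) (fixR 257) 0 256 0 :=
  block_of_check (k := 8) rfl (by decide +kernel)

theorem b1 : Block (okR 257) (fixR 257) 256 512 0 :=
  block_of_check (k := 8) rfl (by decide +kernel)

theorem b2 : Block (okR 257) (fixR 257) 512 768 0 :=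
  block_of_check (k := 8) rfl (by decide +kernel)

theorem b3 : Block (okR 257) (fixR 257) 768 1024 0 :=
  block_of_check (k := 8) rfl (by decide +kernel)

theorem b4 : Block (okR 257) (fixR 257) 1024 1280 0 :=
  block_of_check (k := 8) rfl (by decide +kernel)

theorem b5 : Block (okR 257) (fixR 257) 1280 1536 1 :=
  block_of_check (k := 8) rfl (by decide +kernel)

theorem b6 : Block (okR 257) (fixR 257) 1536 1792 0 :=
  block_of_check (k := 8) rfl (by decide +kernel)

theorem b7 : Block (okR 257) (fixR 257) 1792 2048 1 :=
  block_of_check (k := 8) rfl (by decide +kernel)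

theorem b8 : Block (okR 257) (fixR 257) 2048 2304 0 :=
  block_of_check (k := 8) rfl (by decide +kernel)

theorem b9 : Block (okR 257) (fixR 257) 2304 2560 0 :=
  block_of_check (k := 8) rfl (by decide +kernel)

theorem b10 : Block (okR 257) (fixR 257) 2560 2816 1 :=
  block_of_check (k := 8) rfl (by decide +kernel)

theorem b11 : Block (okR 257) (fixR 257) 2816 3072 0 :=
  block_of_check (k := 8) rfl (by decide +kernel)

theorem b12 : Block (okR 257) (fixR 257) 3072 3328 0 :=
  block_of_check (k := 8) rfl (by decide +kernel)

theorem b13 : Block (okR 257) (fixR 257) 3328 3584 0 :=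
  block_of_check (k := 8) rfl (by decide +kernel)

theorem b14 : Block (okR 257) (fixR 257) 3584 3840 5 :=
  block_of_check (k := 8) rfl (by decide +kernel)

theorem b15 : Block (okR 257) (fixR 257) 3840 4096 0 :=
  block_of_check (k := 8) rfl (by decide +kernel)

theorem b16 : Block (okR 257) (fixR 257) 4096 4352 0 :=
  block_of_check (k := 8) rfl (by decide +kernel)

theorem b17 : Block (okR 257) (fixR 257) 4352 4608 0 :=
  block_of_check (k := 8) rfl (by decide +kernel)

theorem b18 : Block (okR 257) (fixR 257) 4608 4864 0 :=
  block_of_check (k := 8) rfl (by decide +kernel)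

theorem b19 : Block (okR 257) (fixR 257) 4864 5120 0 :=
  block_of_check (k := 8) rfl (by decide +kernel)

theorem b20 : Block (okR 257) (fixR 257) 5120 5376 0 :=
  block_of_check (k := 8) rfl (by decide +kernel)

theorem b21 : Block (okR 257) (fixR 257) 5376 5632 0 :=
  block_of_check (k := 8) rfl (by decide +kernel)

theorem b22 : Block (okR 257) (fixR 257) 5632 5888 1 :=
  block_of_check (k := 8) rfl (by decide +kernel)

theorem b23 : Block (okR 257) (fixR 257) 5888 6144 0 :=
  block_of_check (k := 8) rfl (by decide +kernel)

theorem b24 : Block (okR 257) (fixR 257) 6144 6400 3 :=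
  block_of_check (k := 8) rfl (by decide +kernel)

theorem b25 : Block (okR 257) (fixR 257) 6400 6656 0 :=
  block_of_check (k := 8) rfl (by decide +kernel)

theorem b26 : Block (okR 257) (fixR 257) 6656 6912 0 :=
  block_of_check (k := 8) rfl (by decide +kernel)

theorem b27 : Block (okR 257) (fixR 257) 6912 7168 1 :=
  block_of_check (k := 8) rfl (by decide +kernel)

theorem b28 : Block (okR 257) (fixR 257) 7168 7424 0 :=
  block_of_check (k := 8) rfl (by decide +kernel)

theorem b29 : Block (okR 257) (fixR 257) 7424 7680 0 :=
  block_of_check (k := 8) rfl (by decide +kernel)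

theorem b30 : Block (okR 257) (fixR 257) 7680 7936 1 :=
  block_of_check (k := 8) rfl (by decide +kernel)

theorem b31 : Block (okR 257) (fixR 257) 7936 8192 0 :=
  block_of_check (k := 8) rfl (by decide +kernel)

theorem b32 : Block (okR 257) (fixR 257) 8192 8448 1 :=
  block_of_check (k := 8) rfl (by decide +kernel)

theorem b33 : Block (okR 257) (fixR 257) 8448 8704 3 :=
  block_of_check (k := 8) rfl (by decide +kernel)

theorem b34 : Block (okR 257) (fixR 257) 8704 8960 0 :=
  block_of_check (k := 8) rfl (by decide +kernel)

theorem b35 : Block (okR 257) (fixR 257) 8960 9216 3 :=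
  block_of_check (k := 8) rfl (by decide +kernel)

theorem b36 : Block (okR 257) (fixR 257) 9216 9472 0 :=
  block_of_check (k := 8) rfl (by decide +kernel)

theorem b37 : Block (okR 257) (fixR 257) 9472 9728 1 :=
  block_of_check (k := 8) rfl (by decide +kernel)

theorem b38 : Block (okR 257) (fixR 257) 9728 9984 0 :=
  block_of_check (k := 8) rfl (by decide +kernel)

theorem b39 : Block (okR 257) (fixR 257) 9984 10240 2 :=
  block_of_check (k := 8) rfl (by decide +kernel)

end Cfsg.Agent.TcData.Ly.Fix.T1
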