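import Mathlib
import Cfsg.Agent.Lib.LyDce.FixDefs

set_option autoImplicit false
set_option Elab.async false
set_option maxRecDepth 100000
set_option linter.all false
set_option maxHeartbeats 0

namespace Cfsg.Agent.TcData.Ly.Fix.T1

open Cfsg.Agent.Lib.TcFacts Cfsg.Agent.Lib.LyDce

theorem b40 : Block (okR 257) (fixR 257) 10240 10496 0 :=
  block_of_check (k := 8) rfl (by decide +kernel)

theorem b41 : Block (okR 257) (fixR 257) 10496 10752 0 :=
  block_of_check (k := 8) rfl (by decide +kernel)

theorem b42 : Block (okR 257) (fixR 257) 10752 11008 2 :=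
  block_of_check (k := 8) rfl (by decide +kernel)

theorem b43 : Block (okR 257) (fixR 257) 11008 11264 0 :=
  block_of_check (k := 8) rfl (by decide +kernel)

theorem b44 : Block (okR 257) (fixR 257) 11264 11520 0 :=
  block_of_check (k := 8) rfl (by decide +kernel)

theorem b45 : Block (okR 257) (fixR 257) 11520 11776 1 :=
  block_of_check (k := 8) rfl (by decide +kernel)

theorem b46 : Block (okR 257) (fixR 257) 11776 12032 1 :=
  block_of_check (k := 8) rfl (by decide +kernel)

theorem b47 : Block (okR 257) (fixR 257) 12032 12288 0 :=
  block_of_check (k := 8) rfl (by decide +kernel)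

theorem b48 : Block (okR 257) (fixR 257) 12288 12544 0 :=
  block_of_check (k := 8) rfl (by decide +kernel)

theorem b49 : Block (okR 257) (fixR 257) 12544 12800 0 :=
  block_of_check (k := 8) rfl (by decide +kernel)

theorem b50 : Block (okR 257) (fixR 257) 12800 13056 0 :=
  block_of_check (k := 8) rfl (by decide +kernel)

theorem b51 : Block (okR 257) (fixR 257) 13056 13312 0 :=
  block_of_check (k := 8) rfl (by decide +kernel)

theorem b52 : Block (okR 257) (fixR 257) 13312 13568 0 :=
  block_of_check (k := 8) rfl (by decide +kernel)

theorem b53 : Block (okR 257) (fixR 257) 13568 13824 0 :=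
  block_of_check (k := 8) rfl (by decide +kernel)

theorem b54 : Block (okR 257) (fixR 257) 13824 14080 0 :=
  block_of_check (k := 8) rfl (by decide +kernel)

theorem b55 : Block (okR 257) (fixR 257) 14080 14336 0 :=
  block_of_check (k := 8) rfl (by decide +kernel)

theorem b56 : Block (okR 257) (fixR 257) 14336 14592 0 :=
  block_of_check (k := 8) rfl (by decide +kernel)

theorem b57 : Block (okR 257) (fixR 257) 14592 14848 0 :=
  block_of_check (k := 8) rfl (by decide +kernel)

theorem b58 : Block (okR 257) (fixR 257) 14848 15104 0 :=
  block_of_check (k := 8) rfl (by decide +kernel)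

theorem b59 : Block (okR 257) (fixR 257) 15104 15360 1 :=
  block_of_check (k := 8) rfl (by decide +kernel)

theorem b60 : Block (okR 257) (fixR 257) 15360 15616 0 :=
  block_of_check (k := 8) rfl (by decide +kernel)

theorem b61 : Block (okR 257) (fixR 257) 15616 15872 0 :=
  block_of_check (k := 8) rfl (by decide +kernel)

theorem b62 : Block (okR 257) (fixR 257) 15872 16128 1 :=
  block_of_check (k := 8) rfl (by decide +kernel)

theorem b63 : Block (okR 257) (fixR 257) 16128 16384 1 :=
  block_of_check (k := 8) rfl (by decide +kernel)

theorem b64 : Block (okR 257) (fixR 257) 16384 16640 1 :=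
  block_of_check (k := 8) rfl (by decide +kernel)

theorem b65 : Block (okR 257) (fixR 257) 16640 16896 1 :=
  block_of_check (k := 8) rfl (by decide +kernel)

theorem b66 : Block (okR 257) (fixR 257) 16896 17152 0 :=
  block_of_check (k := 8) rfl (by decide +kernel)

theorem b67 : Block (okR 257) (fixR 257) 17152 17408 0 :=
  block_of_check (k := 8) rfl (by decide +kernel)

theorem b68 : Block (okR 257) (fixR 257) 17408 17664 1 :=
  block_of_check (k := 8) rfl (by decide +kernel)

theorem b69 : Block (okR 257) (fixR 257) 17664 17920 0 :=
  block_of_check (k := 8) rfl (by decide +kernel)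

theorem b70 : Block (okR 257) (fixR 257) 17920 18176 0 :=
  block_of_check (k := 8) rfl (by decide +kernel)

theorem b71 : Block (okR 257) (fixR 257) 18176 18432 0 :=
  block_of_check (k := 8) rfl (by decide +kernel)

theorem b72 : Block (okR 257) (fixR 257) 18432 18688 0 :=
  block_of_check (k := 8) rfl (by decide +kernel)

theorem b73 : Block (okR 257) (fixR 257) 18688 18944 0 :=
  block_of_check (k := 8) rfl (by decide +kernel)

theorem b74 : Block (okR 257) (fixR 257) 18944 19200 0 :=
  block_of_check (k := 8) rfl (by decide +kernel)

theorem b75 : Block (okR 257) (fixR 257) 19200 19456 0 :=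
  block_of_check (k := 8) rfl (by decide +kernel)

theorem b76 : Block (okR 257) (fixR 257) 19456 19712 1 :=
  block_of_check (k := 8) rfl (by decide +kernel)

theorem b77 : Block (okR 257) (fixR 257) 19712 19968 0 :=
  block_of_check (k := 8) rfl (by decide +kernel)

theorem b78 : Block (okR 257) (fixR 257) 19968 20224 0 :=
  block_of_check (k := 8) rfl (by decide +kernel)

theorem b79 : Block (okR 257) (fixR 257) 20224 20480 1 :=
  block_of_check (k := 8) rfl (by decide +kernel)

end Cfsg.Agent.TcData.Ly.Fix.T1
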